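import Groth.Agent.Lib.LimH13.DescendFP
import Groth.Agent.Lib.HTop26.Site
import Groth.Agent.S7476
import Groth.Agent.S14785
import Groth.Prelude.Def_W4c2submetdescSubtr

/-!
# Descent of standard h coverings along limits of affine schemes
-/

universe w u

set_option autoImplicit false
set_option linter.style.haveILetI false
set_option linter.unusedSectionVars false
set_option backward.isDefEq.respectTransparency false
set_option backward.isDefEq.respectTransparency.types false
set_option backward.defeqAttrib.useBackward true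

open CategoryTheory CategoryTheory.Limits AlgebraicGeometry

namespace Groth.Agent.HDesc5

variable {I : Type u} [SmallCategory I] [IsCofiltered I]

/-- A finitely presented affine scheme over an affine limit comes from a stage. -/
theorem exists_affineScheme_model {E : I ⥤ Scheme.{u}} {e : Cone E} (he : IsLimit e)
    [∀ i, IsAffine (E.obj i)] {P : Scheme.{u}} (p : P ⟶ e.pt) [IsAffine P]
    [LocallyOfFinitePresentation p] : ∃ (i : I) (Pi : Scheme.{u}) (pi : Pi ⟶ E.obj i) (q : P ⟶ Pi),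
    IsAffine Pi ∧ LocallyOfFinitePresentation pi ∧ IsPullback q p pi (e.π.app i) := by
  classical
  haveI : IsAffine e.pt := Scheme.isAffine_of_isLimit e he
  haveI : ∀ {i j : I} (a : i ⟶ j), IsAffineHom (E.map a) := fun a => isAffineHom_of_isAffine _
  have hfp : p.appTop.hom.FinitePresentation :=
    (HasRingHomProperty.iff_of_isAffine (P := @LocallyOfFinitePresentation)).1 inferInstance
  let _ := p.appTop.hom.toAlgebra
  haveI : Algebra.FinitePresentation Γ(e.pt, ⊤) Γ(P, ⊤) := hfp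
  let Pr := Algebra.Presentation.ofFinitePresentation Γ(e.pt, ⊤) Γ(P, ⊤)
  choose ix tx htx using fun s : Γ(e.pt, ⊤) => exists_appTop_π_eq_of_isAffine_of_isLimit E e he s
  obtain ⟨i, hi⟩ := IsCofiltered.inf_objs_exists (Pr.finite_coeffs.toFinset.image ix)
  let _ : Algebra Γ(E.obj i, ⊤) Γ(e.pt, ⊤) := (e.π.app i).appTop.hom.toAlgebra
  let _ : Algebra Γ(E.obj i, ⊤) Γ(P, ⊤) := (p.appTop.hom.comp (e.π.app i).appTop.hom).toAlgebra
  haveI : IsScalarTower Γ(E.obj i, ⊤) Γ(e.pt, ⊤) Γ(P, ⊤) := IsScalarTower.of_algebraMap_eq fun _ => rfl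
  haveI : Pr.HasCoeffs Γ(E.obj i, ⊤) := ⟨fun x hx => by
    obtain ⟨a⟩ := hi (Finset.mem_image_of_mem ix (Pr.finite_coeffs.mem_toFinset.2 hx))
    refine ⟨(E.map a).appTop (tx x), ?_⟩
    change ((E.map a).appTop ≫ (e.π.app i).appTop) (tx x) = x
    rw [← Scheme.Hom.comp_appTop, e.w]
    exact htx x⟩
  let B₀ := Pr.ModelOfHasCoeffs Γ(E.obj i, ⊤)
  obtain ⟨g, hg⟩ := FlatH4.isPullback_of_affine p (R := Γ(E.obj i, ⊤)) (B₀ := B₀)
    (Pr.tensorModelOfHasCoeffsEquiv Γ(E.obj i, ⊤))
  let b : Spec (CommRingCat.of B₀) ⟶ Spec Γ(E.obj i, ⊤) :=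
    Spec.map (CommRingCat.ofHom (algebraMap Γ(E.obj i, ⊤) B₀))
  haveI : LocallyOfFinitePresentation b :=
    (LocallyOfFinitePresentation.SpecMap_iff _).2 (RingHom.finitePresentation_algebraMap.2 inferInstance)
  refine ⟨i, _, b ≫ (E.obj i).isoSpec.inv, g, inferInstance, inferInstance, ?_⟩
  have hsq : IsPullback (𝟙 _) b (b ≫ (E.obj i).isoSpec.inv) (E.obj i).isoSpec.inv :=
    IsPullback.of_horiz_isIso ⟨by simp⟩
  have h := hg.paste_horiz hsq
  rw [Category.comp_id] at h
  have heq : (e.pt.isoSpec.hom ≫ Spec.map (CommRingCat.ofHom (algebraMap Γ(E.obj i, ⊤) Γ(e.pt, ⊤)))) ≫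
      (E.obj i).isoSpec.inv = e.π.app i := by
    change (e.pt.isoSpec.hom ≫ Spec.map (e.π.app i).appTop) ≫ _ = _
    exact (Category.assoc _ _ _).trans ((congrArg (e.pt.isoSpec.hom ≫ ·)
      (Scheme.isoSpec_inv_naturality (X := e.pt) (Y := E.obj i) (e.π.app i))).trans (e.pt.isoSpec.hom_inv_id_assoc _))
  rwa [heq] at h


theorem univSSubtrusive_iff_isVCover {X Y : Scheme.{u}} (f : X ⟶ Y) [QuasiCompact f] :
    Subtr.UnivSSubtrusive f ↔ HTop.IsVCover (PreZeroHypercover.singleton.{w} f) := by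
  obtain ⟨h1, h2⟩ := Groth.Agent.S7476.result.{u, w, w, w} f
  constructor
  · intro hf
    refine h1.2 (h2.2 fun Z g z' z hzz' => ?_)
    obtain ⟨p, p', hp, hz1, hz2⟩ := hf (pullback.snd g f) g (pullback.fst g f)
      (IsPullback.of_hasPullback g f) hzz'
    exact ⟨p', p, hp, hz2, hz1⟩
  · intro hf X' Y' a b f' hsq z z' hzz'
    obtain ⟨w', w, hw, e1, e2⟩ := h2.1 (h1.1 hf) Y' b z' z hzz'
    let e := hsq.isoPullback
    refine ⟨e.inv w, e.inv w', hw.map e.inv.continuous, ?_, ?_⟩
    · rw [← Scheme.Hom.comp_apply, hsq.isoPullback_inv_fst]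
      exact e2
    · rw [← Scheme.Hom.comp_apply, hsq.isoPullback_inv_fst]
      exact e1

/-- A standard h covering of a limit of affine schemes comes from a stage. -/
theorem exists_isStandardH (D : I ⥤ Scheme.{u}) [∀ i, IsAffine (D.obj i)] (c : Cone D) (hc : IsLimit c)
    [IsAffine c.pt] (V : PreZeroHypercover.{w} c.pt) (hV : HTop.IsStandardH V) :
    ∃ (i : I) (W : PreZeroHypercover.{w} (D.obj i)), HTop.IsStandardH W ∧
      ∃ (σ : V.I₀ ≃ W.I₀) (e : ∀ j, V.X j ≅ pullback (c.π.app i) (W.f (σ j))),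
        ∀ j, (e j).hom ≫ pullback.fst (c.π.app i) (W.f (σ j)) = V.f j := by
  classical
  haveI := hV.finite_index
  haveI := hV.isAffine_obj
  haveI := hV.finitePresentation
  haveI hA : ∀ {i j : I} (a : i ⟶ j), IsAffineHom (D.map a) := fun a => isAffineHom_of_isAffine _
  haveI : Fintype V.I₀ := Fintype.ofFinite _
  choose ix P b qP hP hb hsq using fun j => exists_affineScheme_model hc (V.f j)
  obtain ⟨i, hi⟩ := IsCofiltered.inf_objs_exists (Finset.univ.image ix)
  have φ := fun j => hi (Finset.mem_image_of_mem ix (Finset.mem_univ j))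
  let W₁ : V.I₀ → Scheme.{u} := fun j => pullback (b j) (D.map (φ j).some)
  choose q hq₁ hq using fun j => LimH13.isPullback_map_stage (φ j).some (hsq j)
  haveI : ∀ j, IsAffine (W₁ j) := fun j => by
    haveI := hP j
    exact inferInstanceAs (IsAffine (pullback (b j) (D.map (φ j).some)))
  let w₁ : ∀ j, W₁ j ⟶ D.obj i := fun j => pullback.snd (b j) (D.map (φ j).some)
  haveI : ∀ j, LocallyOfFinitePresentation (w₁ j) := fun j => by
    haveI := hb j
    exact inferInstanceAs (LocallyOfFinitePresentation (pullback.snd _ _))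
  obtain ⟨n, ⟨en⟩⟩ := Finite.exists_equiv_fin V.I₀
  let κ : Type u := ULift.{u} (Fin n)
  let F : κ → Scheme.{u} := fun k => W₁ (en.symm k.down)
  let f₀ : ∐ F ⟶ D.obj i := Sigma.desc fun k => w₁ (en.symm k.down)
  haveI : ∀ k, IsAffine (F k) := fun k => inferInstanceAs (IsAffine (W₁ _))
  haveI : LocallyOfFinitePresentation f₀ := IsZariskiLocalAtSource.sigmaDesc (fun k => inferInstance)
  haveI : IsAffineHom f₀ := isAffineHom_of_isAffine _
  let f := pullback.snd f₀ (c.π.app i)
  have hfV : HTop.IsVCover (PreZeroHypercover.singleton.{w} f) := by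
    refine HTop26.isVCover_of_refines hV.isVCover fun j => ?_
    obtain ⟨k, rfl⟩ := en.symm.surjective j
    have e : (q (en.symm k) ≫ Sigma.ι F ⟨k⟩) ≫ f₀ = V.f (en.symm k) ≫ c.π.app i := by
      rw [Category.assoc, Sigma.ι_desc]
      exact (hq (en.symm k)).w
    exact ⟨PUnit.unit, pullback.lift _ _ e,
      (pullback.lift_snd _ _ _).trans (Category.comp_id _).symm⟩
  haveI : CompactSpace (D.obj i) := inferInstance
  obtain ⟨i', ψ, Xi, Yi, fi, gi, pY, pX, hY, hX, hfi⟩ := Groth.Agent.S14785.result D c hc i f₀ (𝟙 (D.obj i))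
    f (𝟙 c.pt) (c.π.app i) (pullback.fst f₀ (c.π.app i)) (IsPullback.id_vert (c.π.app i))
    (IsPullback.of_hasPullback f₀ (c.π.app i)) ((univSSubtrusive_iff_isVCover.{w} f).2 hfV)
  haveI : IsIso gi := MorphismProperty.of_isPullback (P := MorphismProperty.isomorphisms Scheme.{u}) hY
    (inferInstanceAs (IsIso (𝟙 (D.obj i))))
  haveI : QuasiCompact fi := MorphismProperty.of_isPullback hX inferInstance
  let W : PreZeroHypercover.{w} (D.obj i') :=
    { I₀ := V.I₀
      X := fun j => pullback (w₁ j) (D.map ψ)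
      f := fun j => pullback.snd (w₁ j) (D.map ψ) }
  have hW : HTop.IsVCover W := by
    have h₁ : HTop.IsVCover (PreZeroHypercover.singleton.{w} (fi ≫ gi)) := by
      refine HTop26.isVCover_of_refines
        (HTop26.isVCover_pullback₁ (inv gi) ((univSSubtrusive_iff_isVCover.{w} fi).1 hfi)) fun _ => ?_
      refine ⟨PUnit.unit, pullback.snd (inv gi) fi, ?_⟩
      show pullback.snd (inv gi) fi ≫ fi ≫ gi = pullback.fst (inv gi) fi ≫ 𝟙 _
      rw [← pullback.condition_assoc, IsIso.inv_hom_id]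
    let 𝒰 : Xi.OpenCover := (sigmaOpenCover F).pullback₁ pX
    refine HTop26.isVCover_of_refines (HTop26.isVCover_bind h₁ (F := fun _ => 𝒰.toPreZeroHypercover)
      fun _ => HTop26.isVCover_openCover 𝒰) fun jk => ?_
    obtain ⟨⟨⟩, ⟨k⟩⟩ := jk
    have e : pullback.snd pX (Sigma.ι F ⟨k⟩) ≫ w₁ (en.symm k) =
        (pullback.fst pX (Sigma.ι F ⟨k⟩) ≫ fi ≫ gi) ≫ D.map ψ := by
      have h0 : Sigma.ι F ⟨k⟩ ≫ f₀ = w₁ (en.symm k) := Sigma.ι_desc _ _
      rw [← h0, ← Category.assoc, ← pullback.condition, Category.assoc, hX.w, Category.assoc, Category.assoc]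
      refine congrArg (pullback.fst pX (Sigma.ι F ⟨k⟩) ≫ fi ≫ ·) ?_
      simpa using hY.w
    exact ⟨en.symm k, pullback.lift _ _ e, (pullback.lift_snd _ _ _).trans (Category.comp_id _).symm⟩
  haveI : ∀ j, IsAffine (W.X j) := fun j => inferInstanceAs (IsAffine (pullback (w₁ j) (D.map ψ)))
  refine ⟨i', W, ⟨inferInstance, inferInstanceAs (Finite V.I₀), inferInstance,
    fun j => inferInstanceAs (LocallyOfFinitePresentation (pullback.snd (w₁ j) (D.map ψ))), hW⟩,
    Equiv.refl _, fun j => ?_, fun j => ?_⟩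
  · exact (LimH13.isPullback_map_stage ψ (hq j)).choose_spec.2.flip.isoPullback
  · exact (LimH13.isPullback_map_stage ψ (hq j)).choose_spec.2.flip.isoPullback_hom_fst

end Groth.Agent.HDesc5
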